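import Groth.Agent.SGA7.K346.Conn
import Groth.Agent.SGA7.K497.Layers
import Groth.Agent.SGA7.K497.TrNodes
import Groth.Agent.SGA7.K411.FieldSeq
import Groth.Agent.SGA7.K411.SurjR
import Groth.Agent.SGA7.K564.Tate.Dual

/-!
# A polarised Barsotti-Tate system has dimension half of its height (trace ideals)

`main` : if there are bialgebra maps `u n : D (B n) → B n`, `v n : B n → D (B n)` with `u v = [N]`, `v u = [N]`,
`N ≠ 0`, and the height is `2 g`, then `p ^ g` lies in the trace ideal of `B 1`.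
-/

set_option autoImplicit false
universe u v

open TensorProduct CartDual K564.Tate K497.TrInt WithConv

namespace K226.PolDed

/-! ### Lagrange -/

theorem dvd_field {k : Type u} [Field k] {P Q : Type u} [CommRing P] [HopfAlgebra k P] [CommRing Q]
    [HopfAlgebra k Q] [Module.Finite k P] (f : Q →ₐc[k] P) (hf : Function.Injective f) :
    Module.finrank k Q ∣ Module.finrank k P := by
  have hI := K188.TrigUnip.isHopfIdeal_map f
  rw [← K190.TrigMult.augIdealSpan_range] at hI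
  set I := SGA3.augIdealSpan k P (f : Q →ₐ[k] P).range with hIdef
  have h1 := K503.QuotCoact.finrank_eq (Bialgebra.Quotient.mkBialgHom (R := k) I) Ideal.Quotient.mk_surjective
  have h2 : K503.QuotCoact.B (Bialgebra.Quotient.mkBialgHom (R := k) I) = (f : Q →ₐ[k] P).range := by
    rw [← Groth.Agent.Sga3.H785.HopfCorr.coinv_augIdealSpan (K190.TrigMult.isHopfSubalgebra_range f)]
    ext a
    rw [K411.FieldSeq.mem_B_iff _ Ideal.Quotient.mk_surjective]
    have h3 : RingHom.ker ((Bialgebra.Quotient.mkBialgHom (R := k) I : P →ₐc[k] P ⧸ I) : P →ₐ[k] P ⧸ I) = I := by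
      ext x
      exact Ideal.Quotient.eq_zero_iff_mem
    rw [h3]
  have h4 : Module.finrank k (f : Q →ₐ[k] P).range = Module.finrank k Q :=
    (AlgEquiv.ofInjective (f : Q →ₐ[k] P) hf).toLinearEquiv.finrank_eq.symm
  rw [h2, h4] at h1
  exact ⟨_, h1⟩

theorem dvd_finrank {R : Type u} [CommRing R] [IsDomain R] {P Q : Type u} [CommRing P] [HopfAlgebra R P] [CommRing Q]
    [HopfAlgebra R Q] [Module.Finite R P] [Module.Free R P] [Module.Finite R Q] [Module.Free R Q] (f : Q →ₐc[R] P)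
    (hf : Function.Injective f) : Module.finrank R Q ∣ Module.finrank R P := by
  have h1 : Function.Injective (K411.SurjR.bc (FractionRing R) f) :=
    Module.Flat.lTensor_preserves_injective_linearMap (M := FractionRing R) ((f : Q →ₐ[R] P).toLinearMap) hf
  have h2 := dvd_field (K411.SurjR.bc (FractionRing R) f) h1
  rwa [Module.finrank_baseChange, Module.finrank_baseChange] at h2

/-! ### the traces of a Hopf subalgebra -/

section trace

variable {R : Type u} [CommRing R] [IsDomain R] [IsDiscreteValuationRing R] [CharZero R] {E B : Type u} [CommRing E]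
  [HopfAlgebra R E] [Coalgebra.IsCocomm R E] [Module.Finite R E] [Module.Free R E] [CommRing B] [HopfAlgebra R B]
  [Module.Finite R B] [Module.Free R B]

omit [IsDomain R] [IsDiscreteValuationRing R] [CharZero R] [Coalgebra.IsCocomm R E] [Module.Finite R E]
  [Module.Free R E] in
theorem inv_trace_comp (κ : E →ₐc[R] B) (hκ : Function.Injective κ) :
    Inv ((Algebra.trace R B) ∘ₗ (κ : E →ₐ[R] B).toLinearMap) := by
  intro y
  apply hκ
  have h1 : ∀ z : E ⊗[R] E, κ (sl ((Algebra.trace R B) ∘ₗ (κ : E →ₐ[R] B).toLinearMap) z) =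
      sl (Algebra.trace R B) (TensorProduct.map (κ : E →ₗ[R] B) (κ : E →ₗ[R] B) z) := by
    intro z
    induction z with
    | zero => simp only [map_zero]
    | add a b ha hb => simp only [map_add, ha, hb]
    | tmul a b =>
      rw [sl_tmul, TensorProduct.map_tmul, sl_tmul, map_smul]
      rfl
  have h2 : TensorProduct.map (κ : E →ₗ[R] B) (κ : E →ₗ[R] B) (Coalgebra.comul (R := R) y) =
      Coalgebra.comul (R := R) (κ y) := CoalgHomClass.map_comp_comul_apply κ _
  rw [h1, h2, inv_trace (κ y)]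
  exact ((κ : E →ₐ[R] B).commutes _).symm

theorem trace_eq (κ : E →ₐc[R] B) (hκ : Function.Injective κ) (y : E) :
    (Module.finrank R B : R) * Algebra.trace R E y = (Module.finrank R E : R) * Algebra.trace R B (κ y) := by
  obtain ⟨l, t, h⟩ := exists_isInt (R := R) (B := E) finrank_ne_zero
  have h1 := fun y => h.eq_smul (inv_trace_comp κ hκ) y
  have h2 := fun y => h.eq_smul (inv_trace (R := R) (B := E)) y
  have h3 : (Module.finrank R E : R) = Algebra.trace R E 1 := by
    have := Algebra.trace_algebraMap (R := R) (S := E) (1 : R)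
    rw [map_one] at this
    rw [this]; simp
  have h4 : (Module.finrank R B : R) = Algebra.trace R B (κ 1) := by
    have := Algebra.trace_algebraMap (R := R) (S := B) (1 : R)
    rw [map_one] at this
    rw [map_one, this]; simp
  have h5 : ∀ y, Algebra.trace R B (κ y) = Algebra.trace R B (κ t) * l y := h1
  rw [h3, h4, h2 1, h2 y, h5 1, h5 y]
  ring

end trace

/-! ### multiplication by powers of `p` -/

section sys

variable {R : Type u} [CommRing R] {p h : ℕ} (Φ : Sys R p h)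

/-- iterated inflation -/
noncomputable def infC (m : ℕ) : ∀ c, Φ.B m →ₐc[R] Φ.B (m + c)
  | 0 => BialgHom.id R (Φ.B m)
  | c + 1 => (Φ.inf (m + c)).comp (infC m c)

/-- iterated restriction -/
noncomputable def resC (m : ℕ) : ∀ c, Φ.B (m + c) →ₐc[R] Φ.B m
  | 0 => BialgHom.id R (Φ.B m)
  | c + 1 => (resC m c).comp (Φ.res (m + c))

theorem infC_injective (m : ℕ) : ∀ c, Function.Injective (infC Φ m c)
  | 0 => fun _ _ h => h
  | c + 1 => fun _ _ h => infC_injective m c (Φ.inf_inj _ h)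

theorem resC_surjective (m : ℕ) : ∀ c, Function.Surjective (resC Φ m c)
  | 0 => fun x => ⟨x, rfl⟩
  | c + 1 => fun x => by
    obtain ⟨y, rfl⟩ := resC_surjective m c x
    obtain ⟨z, rfl⟩ := Φ.res_surj (m + c) y
    exact ⟨z, rfl⟩

/-- `[k]` on a Hopf algebra. -/
noncomputable abbrev mk (R : Type u) [CommRing R] (B : Type u) [CommRing B] [HopfAlgebra R B]
    [Coalgebra.IsCocomm R B] (k : ℕ) : B →ₐc[R] B := ((toConv (BialgHom.id R B)) ^ k).ofConv

theorem mk_mk {B : Type u} [CommRing B] [HopfAlgebra R B] [Coalgebra.IsCocomm R B] (k l : ℕ) (x : B) :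
    mk R B k (mk R B l x) = mk R B (k * l) x := by
  have h1 := K411.Lift.comp_pow ((toConv (AlgHom.id R B)) ^ k).ofConv (toConv (AlgHom.id R B)) l
  have h2 : (toConv ((((toConv (AlgHom.id R B)) ^ k).ofConv).comp (toConv (AlgHom.id R B)).ofConv)) =
      (toConv (AlgHom.id R B)) ^ k := rfl
  rw [h2, ← pow_mul] at h1
  have h3 := congrArg (fun w : WithConv (B →ₐ[R] B) => w.ofConv x) h1
  rw [mk, mk, mk, K411.Lift.pow_id_apply, K411.Lift.pow_id_apply, K411.Lift.pow_id_apply]
  exact h3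

theorem infC_resC (m : ℕ) : ∀ c (y : Φ.B (m + c)), infC Φ m c (resC Φ m c y) = mk R (Φ.B (m + c)) (p ^ c) y
  | 0 => fun y => by
    rw [mk, pow_zero, pow_one]
    rfl
  | c + 1 => fun y => by
    change Φ.inf (m + c) (infC Φ m c (resC Φ m c (Φ.res (m + c) y))) = _
    rw [infC_resC m c, K411.Lift.pow_id_comm (Φ.inf (m + c))]
    have h1 : Φ.inf (m + c) (Φ.res (m + c) y) = mk R (Φ.B (m + c + 1)) p y :=
      congrArg (fun w : Φ.B (m + c + 1) →ₐc[R] Φ.B (m + c + 1) => w y) (Φ.inf_res (m + c))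
    rw [h1]
    exact (mk_mk (p ^ c) p y).trans (by rw [← pow_succ])

theorem mk_pow_level [IsDomain R] : ∀ n (y : Φ.B n), mk R (Φ.B n) (p ^ n) y = algebraMap R (Φ.B n) (Coalgebra.counit (R := R) y)
  | 0 => fun y => by
    rw [mk, pow_zero, pow_one]
    exact K497.Layers.eq_algebraMap Φ y
  | n + 1 => fun y => by
    rw [pow_succ, ← mk_mk]
    have h1 : mk R (Φ.B (n + 1)) p y = Φ.inf n (Φ.res n y) :=
      (congrArg (fun w : Φ.B (n + 1) →ₐc[R] Φ.B (n + 1) => w y) (Φ.inf_res n)).symm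
    rw [h1]
    refine (K411.Lift.pow_id_comm (Φ.inf n) (p ^ n) (Φ.res n y)).symm.trans ?_
    have h2 := mk_pow_level n (Φ.res n y)
    rw [mk] at h2
    rw [h2, CoalgHomClass.counit_comp_apply]
    exact AlgHomClass.commutes (Φ.inf n) _

theorem mk_congr [IsDomain R] (n : ℕ) {a b : ℕ} (hab : a ≡ b [MOD p ^ n]) (y : Φ.B n) :
    mk R (Φ.B n) a y = mk R (Φ.B n) b y := by
  have h1 : (toConv (AlgHom.id R (Φ.B n))) ^ (p ^ n) = 1 := by
    apply WithConv.ext
    ext y
    have h2 := mk_pow_level Φ n y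
    rw [mk, K411.Lift.pow_id_apply] at h2
    exact h2
  rw [mk, mk, K411.Lift.pow_id_apply, K411.Lift.pow_id_apply]
  have h3 : (toConv (AlgHom.id R (Φ.B n))) ^ a = (toConv (AlgHom.id R (Φ.B n))) ^ b := by
    rw [← Nat.mod_add_div a (p ^ n), ← Nat.mod_add_div b (p ^ n), pow_add, pow_add, pow_mul, pow_mul, h1, one_pow,
      one_pow, mul_one, mul_one]
    exact congrArg _ hab
  rw [h3]

/-- The image of `inf^c` is contained in the image of `[p ^ c M]`, `M` prime to `p`. -/
theorem infC_mem [IsDomain R] (hp : p.Prime) (m c M : ℕ) (hm : 1 ≤ m) (hM : ¬ p ∣ M) (x : Φ.B m) :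
    ∃ y, mk R (Φ.B (m + c)) (p ^ c * M) y = infC Φ m c x := by
  obtain ⟨z, rfl⟩ := resC_surjective Φ m c x
  have hcop : Nat.Coprime M (p ^ (m + c)) := ((Nat.Prime.coprime_iff_not_dvd hp).2 hM).symm.pow_right _
  obtain ⟨M', -, hM'⟩ := Nat.exists_mul_mod_eq_one_of_coprime hcop
    (Nat.one_lt_pow (by omega) hp.one_lt)
  refine ⟨mk R (Φ.B (m + c)) M' z, ?_⟩
  rw [mk_mk, infC_resC]
  apply mk_congr Φ
  have h1 : M * M' ≡ 1 [MOD p ^ (m + c)] := by
    rw [Nat.ModEq, hM', Nat.mod_eq_of_lt (Nat.one_lt_pow (by omega) hp.one_lt)]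
  have h2 := h1.mul_left (p ^ c)
  rw [mul_one, ← mul_assoc] at h2
  exact h2

end sys

section main

variable {R : Type u} [CommRing R] [IsDomain R] [IsDiscreteValuationRing R] [CharZero R] {p h : ℕ} (Φ : Sys R p h)

theorem dvd_level (hp : p.Prime) {α β : R} (hα : trI R (Φ.B 1) = Ideal.span {α})
    (hβ : trI R (D R (Φ.B 1)) = Ideal.span {β}) (m c M : ℕ) (hm : 1 ≤ m) (hM : ¬ p ∣ M)
    (u : D R (Φ.B (m + c)) →ₐc[R] Φ.B (m + c)) (v : Φ.B (m + c) →ₐc[R] D R (Φ.B (m + c)))
    (huv : u.comp v = mk R (Φ.B (m + c)) (p ^ c * M)) :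
    (p : R) ^ (m * h) * α ^ (m + c) ∣ (p : R) ^ ((m + c) * h) * β ^ (m + c) := by
  obtain ⟨E, _, _, _, _, _, q, κ, hq, hκ, hqκ⟩ := K346.Conn.exists_image u
  have h1 : trI R (Φ.B (m + c)) = Ideal.span {α ^ (m + c)} := by
    rw [K497.Layers.nPow R p h Φ (m + c), hα, Ideal.span_singleton_pow]
  have h2 : trI R (D R (Φ.B (m + c))) = Ideal.span {β ^ (m + c)} := by
    have h3 : trI R (D R (Φ.B (m + c))) = trI R (D R (Φ.B 1)) ^ (m + c) := K497.Layers.nPow R p h Φ.dual (m + c)
    rw [h3, hβ, Ideal.span_singleton_pow]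
  obtain ⟨j, hj⟩ := K411.Lift.exists_lift κ hκ (infC Φ m c) (fun x => by
    obtain ⟨y, hy⟩ := infC_mem Φ hp m c M hm hM x
    refine ⟨q (v y), ?_⟩
    rw [hqκ, ← hy, ← huv]
    rfl)
  have hji : Function.Injective j := fun x y hxy => infC_injective Φ m c (by rw [← hj, ← hj, hxy])
  obtain ⟨d, hd⟩ := dvd_finrank j hji
  rw [Φ.rank] at hd
  have h4 : β ^ (m + c) ∈ trI R E := by
    have h5 : trI R (D R (Φ.B (m + c))) ≤ trI R E := K346.Conn.trI_le q hq
    apply h5
    rw [h2]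
    exact Ideal.mem_span_singleton_self _
  obtain ⟨y, hy⟩ := h4
  have h5 := trace_eq κ hκ y
  have h6 : Algebra.trace R (Φ.B (m + c)) (κ y) ∈ trI R (Φ.B (m + c)) := ⟨κ y, rfl⟩
  rw [h1, Ideal.mem_span_singleton] at h6
  obtain ⟨s, hs⟩ := h6
  rw [hy, hs, hd, Φ.rank] at h5
  refine ⟨d * s, ?_⟩
  push_cast at h5
  rw [h5]
  ring

theorem main (g N : ℕ) (hp : p.Prime) (hh : h = 2 * g) (hN : N ≠ 0)
    (u : ∀ n, D R (Φ.B n) →ₐc[R] Φ.B n) (v : ∀ n, Φ.B n →ₐc[R] D R (Φ.B n))
    (huv : ∀ n, (u n).comp (v n) = ((WithConv.toConv (BialgHom.id R (Φ.B n))) ^ N).ofConv) :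
    Ideal.span {(p : R) ^ g} ≤ trI R (Φ.B 1) := by
  obtain ⟨c, M, hM, rfl⟩ := Nat.exists_eq_pow_mul_and_not_dvd hN p hp.ne_one
  obtain ⟨α, hα⟩ : ∃ α, trI R (Φ.B 1) = Ideal.span {α} := (IsPrincipalIdealRing.principal (trI R (Φ.B 1))).principal
  obtain ⟨β, hβ⟩ : ∃ β, trI R (D R (Φ.B 1)) = Ideal.span {β} :=
    (IsPrincipalIdealRing.principal (trI R (D R (Φ.B 1)))).principal
  have hdual := K497.TrNodes.nDual R (Φ.B 1)
  rw [hα, hβ, Ideal.span_singleton_mul_span_singleton, Φ.rank, one_mul, Ideal.span_singleton_eq_span_singleton]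
    at hdual
  have hp0 : (p : R) ≠ 0 := Nat.cast_ne_zero.2 hp.ne_zero
  have hαβ : α * β ≠ 0 := by
    intro h0
    rw [h0, Nat.cast_pow] at hdual
    exact pow_ne_zero h hp0 ((associated_zero_iff_eq_zero _).1 hdual.symm)
  have hα0 : α ≠ 0 := left_ne_zero_of_mul hαβ
  have hβ0 : β ≠ 0 := right_ne_zero_of_mul hαβ
  let w := IsDiscreteValuationRing.addVal R
  obtain ⟨a, ha⟩ := ENat.ne_top_iff_exists.1 (fun h0 => hα0 (IsDiscreteValuationRing.addVal_eq_top_iff.1 h0) : w α ≠ ⊤)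
  obtain ⟨b, hb⟩ := ENat.ne_top_iff_exists.1 (fun h0 => hβ0 (IsDiscreteValuationRing.addVal_eq_top_iff.1 h0) : w β ≠ ⊤)
  obtain ⟨e, he⟩ := ENat.ne_top_iff_exists.1 (fun h0 => hp0 (IsDiscreteValuationRing.addVal_eq_top_iff.1 h0) : w p ≠ ⊤)
  have hkey : ∀ m, 1 ≤ m → m * h * e + (m + c) * a ≤ (m + c) * h * e + (m + c) * b := by
    intro m hm
    have h1 := dvd_level Φ hp hα hβ m c M hm hM (u (m + c)) (v (m + c)) (huv (m + c))
    rw [← IsDiscreteValuationRing.addVal_le_iff_dvd, IsDiscreteValuationRing.addVal_mul,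
      IsDiscreteValuationRing.addVal_mul, IsDiscreteValuationRing.addVal_pow, IsDiscreteValuationRing.addVal_pow,
      IsDiscreteValuationRing.addVal_pow, IsDiscreteValuationRing.addVal_pow] at h1
    change (m * h) • w p + (m + c) • w α ≤ ((m + c) * h) • w p + (m + c) • w β at h1
    rw [← ha, ← hb, ← he] at h1
    simp only [nsmul_eq_mul] at h1
    exact_mod_cast h1
  have hsum : a + b = h * e := by
    have h1 : w (α * β) = w ((p ^ h : ℕ) : R) := by
      apply le_antisymm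
      · exact IsDiscreteValuationRing.addVal_le_iff_dvd.2 hdual.dvd
      · exact IsDiscreteValuationRing.addVal_le_iff_dvd.2 hdual.symm.dvd
    rw [Nat.cast_pow] at h1
    change IsDiscreteValuationRing.addVal R _ = IsDiscreteValuationRing.addVal R _ at h1
    rw [IsDiscreteValuationRing.addVal_mul, IsDiscreteValuationRing.addVal_pow] at h1
    change w α + w β = h • w p at h1
    rw [← ha, ← hb, ← he, nsmul_eq_mul] at h1
    exact_mod_cast h1
  have hab : a ≤ b := by
    by_contra hcon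
    push Not at hcon
    have h1 := hkey (c * h * e + 1) (by omega)
    have h2 : (c * h * e + 1 + c) * (b + 1) ≤ (c * h * e + 1 + c) * a := Nat.mul_le_mul_left _ hcon
    nlinarith
  have hle : a ≤ g * e := by
    have h1 : 2 * a ≤ 2 * (g * e) := by
      rw [← mul_assoc, ← hh, ← hsum]
      omega
    omega
  rw [hα, Ideal.span_singleton_le_span_singleton, ← IsDiscreteValuationRing.addVal_le_iff_dvd,
    IsDiscreteValuationRing.addVal_pow]
  change w α ≤ g • w p
  rw [← ha, ← he, nsmul_eq_mul]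
  exact_mod_cast hle

/-- Node POLDED. -/
def PolDed : Prop := ∀ (R : Type u) [CommRing R] [IsDomain R] [IsDiscreteValuationRing R] [CharZero R]
  (p h g N : ℕ) [Fact p.Prime], h = 2 * g → N ≠ 0 → ((p : R) ∈ IsLocalRing.maximalIdeal R) →
  ∀ (Φ : Sys R p h) (u : ∀ n, D R (Φ.B n) →ₐc[R] Φ.B n) (v : ∀ n, Φ.B n →ₐc[R] D R (Φ.B n)),
  (∀ n, (u n).comp (v n) = ((WithConv.toConv (BialgHom.id R (Φ.B n))) ^ N).ofConv) →
  (∀ n, (v n).comp (u n) = ((WithConv.toConv (BialgHom.id R (D R (Φ.B n)))) ^ N).ofConv) →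
  Ideal.span {(p : R) ^ g} ≤ trI R (Φ.B 1)

theorem polDed : PolDed.{u} := fun _ _ _ _ _ _ _ g N hp hh hN _ Φ u v huv _ => main Φ g N hp.out hh hN u v huv

end main

end K226.PolDed
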