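import Groth.Agent.S4056
import Groth.Agent.Sga7.H750.NeronMain
import Groth.Agent.Sga7.H750.SecComp
import Groth.Agent.Sga7.H734.NerHom
import Groth.Agent.Sga3B.SplitBc264
import Groth.Agent.Localalg.GrpSchPts

/-!
# Points of the generic fibre and sections of a semiabelian model

`R` a strictly henselian discrete valuation ring with fraction field `K`, `G` a smooth separated quasi-compact group
over `R` with fibres of unipotent rank zero, whose generic fibre is an abelian variety.  There is a number `C` such
that among `C + 1` points of `G` over `K` there are two whose quotient extends to a section of `G` (`comp`): `G` is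
open in the Neron model, and its image contains the unit component of the special fibre.
-/

set_option autoImplicit false

universe u

open CategoryTheory CategoryTheory.Limits AlgebraicGeometry MonObj
open MonoidalCategory CartesianMonoidalCategory
open IsLocalRing (closedPoint)

namespace K226.Comp

open Groth.Agent.Sga7.H750.SecComp

section unit

variable {R : Type u} [CommRing R] [IsLocalRing R]

/-- The inclusion of the closed point. -/
noncomputable abbrev cl (R : Type u) [CommRing R] [IsLocalRing R] :
    Spec (CommRingCat.of (IsLocalRing.ResidueField R)) ⟶ Spec (CommRingCat.of R) :=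
  Spec.map (CommRingCat.ofHom (IsLocalRing.residue R))

lemma range_cl : Set.range (cl R) = {closedPoint R} := by
  have h1 : ∀ p : Spec (CommRingCat.of (IsLocalRing.ResidueField R)), cl R p = closedPoint R := by
    intro p
    have h2 : p = closedPoint (IsLocalRing.ResidueField R) :=
      Subsingleton.elim (α := PrimeSpectrum (IsLocalRing.ResidueField R)) _ _
    rw [h2]
    exact IsLocalRing.comap_closedPoint (IsLocalRing.residue R)
  ext x
  constructor
  · rintro ⟨p, rfl⟩
    exact h1 p
  · rintro rfl
    obtain ⟨p⟩ : Nonempty (Spec (CommRingCat.of (IsLocalRing.ResidueField R))) := inferInstance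
    exact ⟨p, h1 p⟩

/-- The image of an open subgroup contains the unit component of the special fibre. -/
theorem unitComp_subset {G N : Over (Spec (CommRingCat.of R))} [GrpObj G] [GrpObj N] (u : G ⟶ N) [IsMonHom u]
    [IsOpenImmersion u.left] :
    connectedComponentIn (SGA7.specialFibreSet R N) (η[N].left.base (closedPoint R)) ⊆ Set.range u.left := by
  let q : (Red.bc (cl R) N).left ⟶ N.left := pullback.fst N.hom (cl R)
  let v : Red.bc (cl R) G ⟶ Red.bc (cl R) N := (Over.pullback (cl R)).map u
  have hsq : IsPullback (pullback.fst G.hom (cl R)) v.left u.left q :=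
    Groth.Agent.Sga3B.SplitBc264.isPullback_map_left (cl R) u
  have hvo : IsOpenImmersion v.left := MorphismProperty.of_isPullback (P := @IsOpenImmersion) hsq inferInstance
  have hv : IsMonHom v := inferInstance
  have hclo : IsClosed (Set.range v.left) :=
    (Groth.Agent.Localalg.GrpSchPts.isSubgroupSet_range _ v).isClosed_of_isOpen
      v.left.isOpenEmbedding.isOpen_range
  have hq : IsClosedImmersion q := by
    have h1 : IsClosedImmersion (cl R) :=
      IsClosedImmersion.spec_of_surjective _ IsLocalRing.residue_surjective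
    exact inferInstance
  have hqr : Set.range q = SGA7.specialFibreSet R N := by
    change Set.range (pullback.fst N.hom (cl R)) = _
    rw [Scheme.Pullback.range_fst, range_cl]
    rfl
  have hrv : Set.range v.left = q ⁻¹' Set.range u.left := by
    ext y
    constructor
    · rintro ⟨x, rfl⟩
      refine ⟨pullback.fst G.hom (cl R) x, ?_⟩
      rw [← Scheme.Hom.comp_apply, hsq.w, Scheme.Hom.comp_apply]
    · rintro ⟨g, hg⟩
      obtain ⟨z, hz1, hz2⟩ := Scheme.Pullback.exists_preimage_pullback g y hg
      refine ⟨hsq.isoPullback.inv z, ?_⟩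
      rw [← Scheme.Hom.comp_apply, hsq.isoPullback_inv_snd, hz2]
  have hZ : IsClosed (q '' Set.range v.left) := q.isClosedEmbedding.isClosedMap _ hclo
  have hZ' : q '' Set.range v.left = Set.range u.left ∩ SGA7.specialFibreSet R N := by
    rw [hrv, Set.image_preimage_eq_inter_range, hqr]
  rw [hZ'] at hZ
  have hU : IsOpen (Set.range u.left) := u.left.isOpenEmbedding.isOpen_range
  have he : (η[N].left.base (closedPoint R)) ∈ SGA7.specialFibreSet R N :=
    section_mem_specialFibreSet N η[N]
  have heU : (η[N].left.base (closedPoint R)) ∈ Set.range u.left := by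
    refine ⟨η[G].left.base (closedPoint R), ?_⟩
    have h1 : η[G] ≫ u = η[N] := IsMonHom.one_hom u
    rw [← h1]
    rfl
  intro x hx
  by_contra hxU
  have hsub : connectedComponentIn (SGA7.specialFibreSet R N) (η[N].left.base (closedPoint R)) ⊆
      SGA7.specialFibreSet R N := connectedComponentIn_subset _ _
  have hpre : _root_.IsPreconnected
      (connectedComponentIn (SGA7.specialFibreSet R N) (η[N].left.base (closedPoint R))) :=
    isPreconnected_connectedComponentIn
  obtain ⟨y, hy1, hy2, hy3⟩ := hpre _ _ hU hZ.isOpen_compl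
    (fun z _ => by
      by_cases hz : z ∈ Set.range u.left
      · exact Or.inl hz
      · exact Or.inr fun h => hz h.1)
    ⟨_, mem_connectedComponentIn he, heU⟩ ⟨x, hx, fun h => hxU h.1⟩
  exact hy3 ⟨hy2, hsub hy1⟩

end unit

/-- **Finiteness of the component group, for points**. -/
theorem comp (R K : Type u) [CommRing R] [IsDomain R] [IsDiscreteValuationRing R] [HenselianLocalRing R]
    [IsAlgClosed (IsLocalRing.ResidueField R)] [Field K] [Algebra R K] [IsFractionRing R K]
    (G : Over (Spec (CommRingCat.of R))) [GrpObj G] [IsCommMonObj G] [Smooth G.hom] [IsSeparated G.hom]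
    [QuasiCompact G.hom] (hG : SGA7.FibresUnipotentRankZero G)
    (_hirr : ∀ (k' : Type u) [Field k'] (t : Spec (CommRingCat.of k') ⟶ Spec (CommRingCat.of R)),
      IrreducibleSpace ↑(pullback G.hom t))
    [IsProper ((SGA7.genFib R K).obj G).hom] [GeometricallyIntegral ((SGA7.genFib R K).obj G).hom] :
    ∃ C : ℕ, ∀ z : Fin (C + 1) → (𝟙_ (Over (Spec (CommRingCat.of K))) ⟶ (SGA7.genFib R K).obj G),
      ∃ i j, i ≠ j ∧ ∃ a : 𝟙_ (Over (Spec (CommRingCat.of R))) ⟶ G,
        Spec.map (CommRingCat.ofHom (algebraMap R K)) ≫ a.left = (z i * (z j)⁻¹).left ≫ pullback.fst _ _ := by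
  have hsep : IsSepClosed (IsLocalRing.ResidueField R) := inferInstance
  obtain ⟨N, _, e, he, hN⟩ := Groth.Agent.Sga7.H750.NeronMain.neAll R K ((SGA7.genFib R K).obj G)
  have hNsm : Smooth N.hom := hN.1
  have hNsep : IsSeparated N.hom := hN.2.1
  have hNqc : QuasiCompact N.hom := hN.2.2.1
  have heinv : IsMonHom e.inv := inferInstance
  obtain ⟨u, hu, hum⟩ := Groth.Agent.Sga7.H734.NerHom.exists_hom G N inferInstance hN e.inv
  have hiso : IsIso e.hom.left := inferInstanceAs (IsIso ((Over.forget _).map e.hom))
  have hw : e.hom.left ≫ ((SGA7.genFib R K).obj G).hom = ((SGA7.genFib R K).obj N).hom := Over.w e.hom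
  have hpr : IsProper ((SGA7.genFib R K).obj N).hom := by
    rw [← hw]
    infer_instance
  have hgi : GeometricallyIntegral ((SGA7.genFib R K).obj N).hom := by
    have hri : MorphismProperty.RespectsIso @GeometricallyIntegral :=
      MorphismProperty.IsStableUnderBaseChange.respectsIso
    rw [← hw]
    exact (MorphismProperty.cancel_left_of_respectsIso (P := @GeometricallyIntegral) e.hom.left _).2 inferInstance
  have hgu : IsIso ((SGA7.genFib R K).map u) := by
    rw [hu]
    infer_instance
  have hop : IsOpenImmersion u.left := Groth.Agent.S4056.result R K N hN G hG u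
  have hfin := finite_range_secComp N
  let Fu := SGA7.genFib R K
  -- extension of points
  have hext : ∀ z : 𝟙_ (Over (Spec (CommRingCat.of K))) ⟶ (SGA7.genFib R K).obj G,
      ∃ x : 𝟙_ (Over (Spec (CommRingCat.of R))) ⟶ N, Functor.LaxMonoidal.ε Fu ≫ Fu.map x = z ≫ e.inv := by
    intro z
    have hsm : Smooth (𝟙_ (Over (Spec (CommRingCat.of R)))).hom :=
      inferInstanceAs (Smooth (𝟙 (Spec (CommRingCat.of R))))
    obtain ⟨x, hx⟩ := (hN.2.2.2 _ hsm).2 (Functor.OplaxMonoidal.η Fu ≫ z ≫ e.inv)
    have hx' : Fu.map x = Functor.OplaxMonoidal.η Fu ≫ z ≫ e.inv := hx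
    refine ⟨x, ?_⟩
    rw [hx', Functor.Monoidal.ε_η_assoc]
  choose x hx using hext
  let _ : Fintype (Set.range (SGA7.secComp R N)) := hfin.fintype
  refine ⟨Fintype.card (Set.range (SGA7.secComp R N)), fun z => ?_⟩
  obtain ⟨i, j, hij, hc⟩ := Fintype.exists_ne_map_eq_of_card_lt
    (fun i : Fin (Fintype.card (Set.range (SGA7.secComp R N)) + 1) =>
      (⟨SGA7.secComp R N (x (z i)), ⟨_, rfl⟩⟩ : Set.range (SGA7.secComp R N))) (by simp)
  have hc' : SGA7.secComp R N (x (z i)) = SGA7.secComp R N (x (z j)) := congrArg Subtype.val hc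
  refine ⟨i, j, hij, ?_⟩
  let y : 𝟙_ (Over (Spec (CommRingCat.of R))) ⟶ N := x (z i) * (x (z j))⁻¹
  have hy : y ∈ SGA7.secUnitComp R N := (secComp_eq_iff N _ _).1 hc'
  have hy1 : y.left (closedPoint R) ∈ Set.range u.left := unitComp_subset u hy
  have hy2 : Set.range y.left ⊆ Set.range u.left := by
    let U : TopologicalSpace.Opens (PrimeSpectrum R) :=
      ⟨y.left ⁻¹' Set.range u.left, u.left.isOpenEmbedding.isOpen_range.preimage y.left.continuous⟩
    have hU : U = ⊤ := (IsLocalRing.closedPoint_mem_iff U).1 hy1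
    rintro _ ⟨p, rfl⟩
    have hp : (p : PrimeSpectrum R) ∈ U := by rw [hU]; trivial
    exact hp
  let a0 : Spec (CommRingCat.of R) ⟶ G.left := IsOpenImmersion.lift u.left y.left hy2
  have ha0 : a0 ≫ u.left = y.left := IsOpenImmersion.lift_fac _ _ _
  let a : 𝟙_ (Over (Spec (CommRingCat.of R))) ⟶ G := Over.homMk a0 (by
    rw [← Over.w u, ← Category.assoc, ha0]
    exact Over.w y)
  refine ⟨a, ?_⟩
  have h1 : (z i * (z j)⁻¹) ≫ e.inv = Functor.LaxMonoidal.ε Fu ≫ Fu.map y := by
    rw [MonObj.mul_comp, GrpObj.inv_comp, ← hx, ← hx, ← GrpObj.comp_inv, ← MonObj.comp_mul, ← Functor.map_inv',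
      ← Functor.map_mul]
  have h2 : ∀ {A B : Over (Spec (CommRingCat.of R))} (w : A ⟶ B),
      (Fu.map w).left ≫ pullback.fst B.hom (Spec.map (CommRingCat.ofHom (algebraMap R K))) =
        pullback.fst A.hom (Spec.map (CommRingCat.ofHom (algebraMap R K))) ≫ w.left := fun w =>
    (Groth.Agent.Sga3B.SplitBc264.isPullback_map_left (Spec.map (CommRingCat.ofHom (algebraMap R K))) w).w.symm
  have h3 : (Functor.LaxMonoidal.ε Fu).left ≫ pullback.fst (𝟙_ (Over (Spec (CommRingCat.of R)))).hom
      (Spec.map (CommRingCat.ofHom (algebraMap R K))) = Spec.map (CommRingCat.ofHom (algebraMap R K)) := by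
    have h4 : (Functor.LaxMonoidal.ε Fu).left ≫ pullback.snd (𝟙_ (Over (Spec (CommRingCat.of R)))).hom
      (Spec.map (CommRingCat.ofHom (algebraMap R K))) = 𝟙 _ := Over.w (Functor.LaxMonoidal.ε Fu)
    have h5 : pullback.fst (𝟙_ (Over (Spec (CommRingCat.of R)))).hom (Spec.map (CommRingCat.ofHom (algebraMap R K))) =
        pullback.snd (𝟙_ (Over (Spec (CommRingCat.of R)))).hom (Spec.map (CommRingCat.ofHom (algebraMap R K))) ≫
          Spec.map (CommRingCat.ofHom (algebraMap R K)) := by
      rw [← pullback.condition]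
      exact (Category.comp_id _).symm
    rw [h5, ← Category.assoc, h4, Category.id_comp]
  rw [← cancel_mono u.left, Category.assoc, Category.assoc]
  have h6 : a.left ≫ u.left = y.left := ha0
  rw [h6, ← h2 u]
  have h7 : Fu.map u = e.inv := hu
  rw [h7, ← Category.assoc, ← Over.comp_left, h1, Over.comp_left, Category.assoc, h2 y, ← Category.assoc, h3]

end K226.Comp
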